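import Cfsg.Agent.Lib.Spor.TC.Signed

/-!
A collapsing case: tables found by a computer search.
-/

set_option autoImplicit false
set_option maxRecDepth 100000

namespace CfsgLib.Spor.GLTwoAmalgam.SevenK

open CfsgLib.Spor.TC

def edgeTbl : Tbl :=
  (.bin (.bin (.bin (.tip 0x10000dd0000100001b0000c000037000020000c80000b000047000030000b700003000045000050000870000000000c0000700005e0000000006e000020000550000000005a0000a00002a000090000a600008000095000070000870000600007b0000000006d000050000250000000005b0000400001000003000044000010000300000200001700001000027000000000080000100000400000000014000000000060000000000200000000000) (.tip 0x2f0001be000190001ba0003b00019e0003a00016e000390000be0003800003e0001600037e0003c0001b50001b0003c50003b0001ba0003a0003b6000390003a5000380003970003700038b0001600037d00036000192000350003660001f0003520001f00023a000340001fe0003300015e000320000ce0003100004e0001500030e0003400023a0003300034600032000335000310003270003000031b0001500030d0002f0002f5000200002f7)) (.bin (.tip 0x160001970001800016e0000400017e000240001f50001c000245000220002360002100022500015000217000160001c6000160000b40001d00016e000200001c50001f000205000150001f60001600003b0001600004a0001e00016e0000400015a0001e00004a000030001ea0001d0000b40001c0001d70001b0001ca0001a0001b6000190001a5000180001970001700018b0000300017d0000300015b0000c0000460000900002a00009000097)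 .none)) (.bin (.bin (.tip 0xa00009e000160000c500005000162000090000850000800008a000080000570001300009e000080001340000800011e000150000b50000c0001550000b0000280000b00014e000140000280000c0001480001100011b0001100005700011000135000110001340001200011e0001000005e0000f00002e0000e00001e000010000de0001300012500012000135000120000570001100012a000100001160000f0001050000e0000f70000d0000eb) (.tip 0x50000000000b0000100000e0001500000e0000b00000e0000500000e0001b00005e0000200000e0001a00005e0000800005e0001a00008e0001b00008e0000900008e0000c00002e0001600005e0001500005e0000b00002e0001b00009e0002000009e0001a00009e0001900008e0003600027e0002900027e000230001be0001600015e000200001ae0003600029e0003500026e0001f00019e0001b0001b50003c0001be)) (.bin (.tip 0x1a0000ca0002e0001ae0000b0000cc0002e0000ca0002d0002e60002c0002d50002b0002c70002a0002bb0000b0002ad0000b00020b000290001f2000290002870002800029700008000282000200002360001f0001560002200020e0001f00021e0002700008200026000276000190002620001a0001f5000190001bb00019000167000240001ae00019000204000190001ce00015000163000150000520001500025e0002500005200016000252) .none)))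

def nodeTbl : Tbl :=
  (.bin (.tip 0x15600003a0001c70001ba0001a600019500018700017b00003d0000520000c50000c800012500011a0001060000f50000e70000db00001d00002800003700009600008500007700006b00000d00000b000034000010000017000004000000) (.tip 0x1b50003a600039500038700037b00016d0003560001f200033600032500031700030b00015d0002070002d60002c50002b70002ab0000bd0002870000820002660001920001620001c50002260002150001570001f5))

def rowTbl : Tbl :=
  (.tip 0x0)

/-- The relators. -/
def rels : List (List ℕ) := [
  [0, 0, 0],
  [2, 2, 2],
  [1, 3, 0, 2, 9],
  [8, 8, 8],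
  [1, 9, 0, 8],
  [3, 9, 2, 8],
  [4, 4, 4, 4],
  [6, 6, 6, 6],
  [5, 5, 7, 7, 4, 4, 6, 6],
  [4, 4, 0, 5, 5, 1],
  [6, 6, 0, 7, 7, 0],
  [4, 4, 2, 5, 5, 2],
  [6, 6, 2, 7, 7, 3],
  [6, 6, 8, 7, 7, 8],
  [4, 4, 8, 5, 5, 8],
  [6, 0, 7, 8],
  [6, 8, 7, 1],
  [2, 6, 2, 6, 2, 6],
  [4, 4, 6, 5, 5, 6],
  [7, 7, 3, 6, 6, 2],
  [6, 6, 4, 7, 7, 4],
  [4, 2, 5, 9],
  [4, 8, 5, 2],
  [0, 4, 0, 4, 0, 4],
  [11, 5, 7, 4],
  [13, 11, 7, 5, 6, 10, 7, 4, 6],
  [10, 10, 7, 7, 5, 5],
  [7, 4, 4, 7, 5, 5],
  [10, 10, 10, 10],
  [4, 4, 10, 5, 5, 10],
  [4, 4, 7, 4, 6, 5, 5, 7, 4, 6],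
  [12, 7, 7]]

/-- The generators of the subgroup. -/
def subs : List (List ℕ) := [[0], [2], [6], [4, 4], [8]]

/-- The certificate. -/
noncomputable def cert : Cert :=
  ⟨14, rels, subs, edgeTbl.get 44, nodeTbl.get 24, rowTbl.get 20⟩

end CfsgLib.Spor.GLTwoAmalgam.SevenK
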